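import Cfsg.Agent.H13.RuOut.Data
import Cfsg.Agent.H36.AutEngine

/-! Certificate data for an automorphism classification. -/

set_option autoImplicit false
set_option maxRecDepth 100000

open Cfsg.Agent.H16 Cfsg.Agent.H36 Cfsg.Agent.H36.AutEngine

namespace Cfsg.Agent.H13.RuOut

/-- Data: cert. -/
noncomputable def cert : Cert := ⟨13, 319, 624, 690, 4, 713, 2, [319, 624, 690], [[1, 2, 1, 2, 2, 2, 1, 2, 1, 2, 2, 2, 1, 2, 1, 2, 2, 2], [0, 1, 0, 2, 0, 0, 0, 1, 0, 2, 0, 0, 0, 1, 0, 2, 0, 0, 0, 1, 0, 2, 0, 0, 0, 1, 0, 2, 0, 0, 0, 1, 0, 2, 0, 0, 0, 1, 0, 2, 0, 0, 0, 1, 0, 2, 0, 0], [0, 1, 2, 0, 2, 0, 0, 2, 0, 1, 2, 0, 2, 0, 0, 2, 0, 1, 2, 0, 2, 0, 0, 2, 0, 1, 2, 0, 2, 0, 0, 2, 0, 1, 2, 0, 2, 0, 0, 2, 0, 1, 2, 0, 2, 0, 0, 2, 0, 1, 2, 0, 2, 0, 0, 2, 0, 1, 2, 0, 2, 0, 0, 2, 0, 1, 2, 0, 2, 0, 0,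 2, 0, 1, 2, 0, 2, 0, 0, 2]], [[2, 0, 2, 0, 1, 0, 0, 2, 0, 1, 0, 0, 2, 0, 0, 2, 0, 0, 0, 2, 1, 0, 0, 2, 0, 2, 0, 0, 2, 1, 0, 0, 2, 1, 0], [1, 0, 1, 0, 2, 0, 2, 0, 0, 0, 1, 2, 0, 0, 1, 2, 1, 0, 0, 2, 0, 0, 0, 2, 0, 0, 0, 0, 2, 0, 1, 0, 2]],
[⟨1, 319, trans0, [[866, 0], [842, 0], [825, 0], [847, 0], [838, 0], [792, 0], [848, 0], [714, 0], [821, 0], [804, 0], [837, 0], [819, 0], [319, 0], [807, 0], [789, 0], [857, 0], [877, 0], [835, 0], [806, 0], [808, 0], [880, 0], [788, 0], [791, 0], [715, 0], [871, 0], [861, 0], [805, 0], [793, 0], [716, 0], [790, 0], [794, 0], [751, 0], [873, 0], [797, 0], [832, 0], [812, 0], [816, 0], [864, 0], [859, 0], [798, 0], [799, 0], [752, 0], [840, 0], [862, 0], [785, 0], [786, 0], [801, 0], [827, 0], [318, 0], [823, 0], [809, 0], [795, 0]], [⟨624, trans0_0,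 [[0, 1], [0, 1], [1, 880, 0], [0, 1], [0, 0], [0, 2], [0, 0], [0, 1], [0, 1], [0, 0], [0, 1], [0, 2], [0, 1], [0, 2], [0, 1], [0, 1], [0, 1], [0, 0], [0, 2], [0, 1], [0, 0], [0, 1], [0, 1], [0, 0], [0, 1], [0, 2], [0, 1], [0, 0], [0, 1], [0, 2], [0, 1], [0, 0], [0, 1], [0, 1], [0, 1], [0, 1], [0, 2], [0, 1], [0, 1], [0, 0], [0, 1], [0, 1], [0, 1], [0, 0], [0, 1], [0, 1], [0, 0], [0, 0]]⟩]⟩]⟩

end Cfsg.Agent.H13.RuOut
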