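import Cfsg.Agent.H13.RuOut.Data

/-! Kernel checks of the straight-line program. -/

set_option autoImplicit false
set_option maxRecDepth 100000
set_option Elab.async false

open Cfsg.Agent.H16 Cfsg.Agent.H36 Cfsg.Agent.H36.AutEngine

namespace Cfsg.Agent.H13.RuOut

theorem slp_part0_0 : allFrom (fun k => ctx.slpOk k) 8 0 = true := by decide +kernel

theorem slp_part0_1 : allFrom (fun k => ctx.slpOk k) 8 8 = true := by decide +kernel

theorem slp_part0_2 : allFrom (fun k => ctx.slpOk k) 8 16 = true := by decide +kernel

theorem slp_part0_3 : allFrom (fun k => ctx.slpOk k) 8 24 = true := by decide +kernel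

theorem slp_part0_4 : allFrom (fun k => ctx.slpOk k) 8 32 = true := by decide +kernel

theorem slp_part0_5 : allFrom (fun k => ctx.slpOk k) 8 40 = true := by decide +kernel

theorem slp_part0_6 : allFrom (fun k => ctx.slpOk k) 8 48 = true := by decide +kernel

theorem slp_part0_7 : allFrom (fun k => ctx.slpOk k) 8 56 = true := by decide +kernel

theorem slp_part0_8 : allFrom (fun k => ctx.slpOk k) 8 64 = true := by decide +kernel

theorem slp_part0_9 : allFrom (fun k => ctx.slpOk k) 8 72 = true := by decide +kernel

theorem slp_part0_10 : allFrom (fun k => ctx.slpOk k) 8 80 = true := by decide +kernel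

theorem slp_part0_11 : allFrom (fun k => ctx.slpOk k) 8 88 = true := by decide +kernel

theorem slp_part0_12 : allFrom (fun k => ctx.slpOk k) 8 96 = true := by decide +kernel

theorem slp_part0_13 : allFrom (fun k => ctx.slpOk k) 8 104 = true := by decide +kernel

theorem slp_part0_14 : allFrom (fun k => ctx.slpOk k) 3 112 = true := by decide +kernel

theorem slp_block0 (k : ℕ) (h1 : 0 ≤ k) (h2 : k < 115) : ctx.slpOk k = true := by
  by_cases h0 : k < 8
  · exact allFrom_spec slp_part0_0 k (by omega) (by omega)
  by_cases h1 : k < 16
  · exact allFrom_spec slp_part0_1 k (by omega) (by omega)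
  by_cases h2 : k < 24
  · exact allFrom_spec slp_part0_2 k (by omega) (by omega)
  by_cases h3 : k < 32
  · exact allFrom_spec slp_part0_3 k (by omega) (by omega)
  by_cases h4 : k < 40
  · exact allFrom_spec slp_part0_4 k (by omega) (by omega)
  by_cases h5 : k < 48
  · exact allFrom_spec slp_part0_5 k (by omega) (by omega)
  by_cases h6 : k < 56
  · exact allFrom_spec slp_part0_6 k (by omega) (by omega)
  by_cases h7 : k < 64
  · exact allFrom_spec slp_part0_7 k (by omega) (by omega)
  by_cases h8 : k < 72
  · exact allFrom_spec slp_part0_8 k (by omega) (by omega)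
  by_cases h9 : k < 80
  · exact allFrom_spec slp_part0_9 k (by omega) (by omega)
  by_cases h10 : k < 88
  · exact allFrom_spec slp_part0_10 k (by omega) (by omega)
  by_cases h11 : k < 96
  · exact allFrom_spec slp_part0_11 k (by omega) (by omega)
  by_cases h12 : k < 104
  · exact allFrom_spec slp_part0_12 k (by omega) (by omega)
  by_cases h13 : k < 112
  · exact allFrom_spec slp_part0_13 k (by omega) (by omega)
  exact allFrom_spec slp_part0_14 k (by omega) (by omega)

end Cfsg.Agent.H13.RuOut
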