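import Cfsg.Agent.H13.RuOut.Data

/-! Kernel checks of the straight-line program. -/

set_option autoImplicit false
set_option maxRecDepth 100000
set_option Elab.async false

open Cfsg.Agent.H16 Cfsg.Agent.H36 Cfsg.Agent.H36.AutEngine

namespace Cfsg.Agent.H13.RuOut

theorem slp_part1_0 : allFrom (fun k => ctx.slpOk k) 8 115 = true := by decide +kernel

theorem slp_part1_1 : allFrom (fun k => ctx.slpOk k) 8 123 = true := by decide +kernel

theorem slp_part1_2 : allFrom (fun k => ctx.slpOk k) 8 131 = true := by decide +kernel

theorem slp_part1_3 : allFrom (fun k => ctx.slpOk k) 8 139 = true := by decide +kernel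

theorem slp_part1_4 : allFrom (fun k => ctx.slpOk k) 8 147 = true := by decide +kernel

theorem slp_part1_5 : allFrom (fun k => ctx.slpOk k) 8 155 = true := by decide +kernel

theorem slp_part1_6 : allFrom (fun k => ctx.slpOk k) 8 163 = true := by decide +kernel

theorem slp_part1_7 : allFrom (fun k => ctx.slpOk k) 8 171 = true := by decide +kernel

theorem slp_part1_8 : allFrom (fun k => ctx.slpOk k) 8 179 = true := by decide +kernel

theorem slp_part1_9 : allFrom (fun k => ctx.slpOk k) 8 187 = true := by decide +kernel

theorem slp_part1_10 : allFrom (fun k => ctx.slpOk k) 8 195 = true := by decide +kernel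

theorem slp_part1_11 : allFrom (fun k => ctx.slpOk k) 8 203 = true := by decide +kernel

theorem slp_part1_12 : allFrom (fun k => ctx.slpOk k) 8 211 = true := by decide +kernel

theorem slp_part1_13 : allFrom (fun k => ctx.slpOk k) 8 219 = true := by decide +kernel

theorem slp_part1_14 : allFrom (fun k => ctx.slpOk k) 3 227 = true := by decide +kernel

theorem slp_block1 (k : ℕ) (h1 : 115 ≤ k) (h2 : k < 230) : ctx.slpOk k = true := by
  by_cases h0 : k < 123
  · exact allFrom_spec slp_part1_0 k (by omega) (by omega)
  by_cases h1 : k < 131
  · exact allFrom_spec slp_part1_1 k (by omega) (by omega)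
  by_cases h2 : k < 139
  · exact allFrom_spec slp_part1_2 k (by omega) (by omega)
  by_cases h3 : k < 147
  · exact allFrom_spec slp_part1_3 k (by omega) (by omega)
  by_cases h4 : k < 155
  · exact allFrom_spec slp_part1_4 k (by omega) (by omega)
  by_cases h5 : k < 163
  · exact allFrom_spec slp_part1_5 k (by omega) (by omega)
  by_cases h6 : k < 171
  · exact allFrom_spec slp_part1_6 k (by omega) (by omega)
  by_cases h7 : k < 179
  · exact allFrom_spec slp_part1_7 k (by omega) (by omega)
  by_cases h8 : k < 187
  · exact allFrom_spec slp_part1_8 k (by omega) (by omega)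
  by_cases h9 : k < 195
  · exact allFrom_spec slp_part1_9 k (by omega) (by omega)
  by_cases h10 : k < 203
  · exact allFrom_spec slp_part1_10 k (by omega) (by omega)
  by_cases h11 : k < 211
  · exact allFrom_spec slp_part1_11 k (by omega) (by omega)
  by_cases h12 : k < 219
  · exact allFrom_spec slp_part1_12 k (by omega) (by omega)
  by_cases h13 : k < 227
  · exact allFrom_spec slp_part1_13 k (by omega) (by omega)
  exact allFrom_spec slp_part1_14 k (by omega) (by omega)

end Cfsg.Agent.H13.RuOut
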