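import Cfsg.Agent.H13.RuOut.Data

/-! Kernel checks of the straight-line program. -/

set_option autoImplicit false
set_option maxRecDepth 100000
set_option Elab.async false

open Cfsg.Agent.H16 Cfsg.Agent.H36 Cfsg.Agent.H36.AutEngine

namespace Cfsg.Agent.H13.RuOut

theorem slp_part2_0 : allFrom (fun k => ctx.slpOk k) 8 230 = true := by decide +kernel

theorem slp_part2_1 : allFrom (fun k => ctx.slpOk k) 8 238 = true := by decide +kernel

theorem slp_part2_2 : allFrom (fun k => ctx.slpOk k) 8 246 = true := by decide +kernel

theorem slp_part2_3 : allFrom (fun k => ctx.slpOk k) 8 254 = true := by decide +kernel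

theorem slp_part2_4 : allFrom (fun k => ctx.slpOk k) 8 262 = true := by decide +kernel

theorem slp_part2_5 : allFrom (fun k => ctx.slpOk k) 8 270 = true := by decide +kernel

theorem slp_part2_6 : allFrom (fun k => ctx.slpOk k) 8 278 = true := by decide +kernel

theorem slp_part2_7 : allFrom (fun k => ctx.slpOk k) 8 286 = true := by decide +kernel

theorem slp_part2_8 : allFrom (fun k => ctx.slpOk k) 8 294 = true := by decide +kernel

theorem slp_part2_9 : allFrom (fun k => ctx.slpOk k) 8 302 = true := by decide +kernel

theorem slp_part2_10 : allFrom (fun k => ctx.slpOk k) 8 310 = true := by decide +kernel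

theorem slp_part2_11 : allFrom (fun k => ctx.slpOk k) 8 318 = true := by decide +kernel

theorem slp_part2_12 : allFrom (fun k => ctx.slpOk k) 8 326 = true := by decide +kernel

theorem slp_part2_13 : allFrom (fun k => ctx.slpOk k) 8 334 = true := by decide +kernel

theorem slp_part2_14 : allFrom (fun k => ctx.slpOk k) 4 342 = true := by decide +kernel

theorem slp_block2 (k : ℕ) (h1 : 230 ≤ k) (h2 : k < 346) : ctx.slpOk k = true := by
  by_cases h0 : k < 238
  · exact allFrom_spec slp_part2_0 k (by omega) (by omega)
  by_cases h1 : k < 246
  · exact allFrom_spec slp_part2_1 k (by omega) (by omega)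
  by_cases h2 : k < 254
  · exact allFrom_spec slp_part2_2 k (by omega) (by omega)
  by_cases h3 : k < 262
  · exact allFrom_spec slp_part2_3 k (by omega) (by omega)
  by_cases h4 : k < 270
  · exact allFrom_spec slp_part2_4 k (by omega) (by omega)
  by_cases h5 : k < 278
  · exact allFrom_spec slp_part2_5 k (by omega) (by omega)
  by_cases h6 : k < 286
  · exact allFrom_spec slp_part2_6 k (by omega) (by omega)
  by_cases h7 : k < 294
  · exact allFrom_spec slp_part2_7 k (by omega) (by omega)
  by_cases h8 : k < 302
  · exact allFrom_spec slp_part2_8 k (by omega) (by omega)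
  by_cases h9 : k < 310
  · exact allFrom_spec slp_part2_9 k (by omega) (by omega)
  by_cases h10 : k < 318
  · exact allFrom_spec slp_part2_10 k (by omega) (by omega)
  by_cases h11 : k < 326
  · exact allFrom_spec slp_part2_11 k (by omega) (by omega)
  by_cases h12 : k < 334
  · exact allFrom_spec slp_part2_12 k (by omega) (by omega)
  by_cases h13 : k < 342
  · exact allFrom_spec slp_part2_13 k (by omega) (by omega)
  exact allFrom_spec slp_part2_14 k (by omega) (by omega)

end Cfsg.Agent.H13.RuOut
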