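import Cfsg.Agent.H13.RuOut.Data

/-! Kernel checks of the straight-line program. -/

set_option autoImplicit false
set_option maxRecDepth 100000
set_option Elab.async false

open Cfsg.Agent.H16 Cfsg.Agent.H36 Cfsg.Agent.H36.AutEngine

namespace Cfsg.Agent.H13.RuOut

theorem slp_part3_0 : allFrom (fun k => ctx.slpOk k) 8 346 = true := by decide +kernel

theorem slp_part3_1 : allFrom (fun k => ctx.slpOk k) 8 354 = true := by decide +kernel

theorem slp_part3_2 : allFrom (fun k => ctx.slpOk k) 8 362 = true := by decide +kernel

theorem slp_part3_3 : allFrom (fun k => ctx.slpOk k) 8 370 = true := by decide +kernel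

theorem slp_part3_4 : allFrom (fun k => ctx.slpOk k) 8 378 = true := by decide +kernel

theorem slp_part3_5 : allFrom (fun k => ctx.slpOk k) 8 386 = true := by decide +kernel

theorem slp_part3_6 : allFrom (fun k => ctx.slpOk k) 8 394 = true := by decide +kernel

theorem slp_part3_7 : allFrom (fun k => ctx.slpOk k) 8 402 = true := by decide +kernel

theorem slp_part3_8 : allFrom (fun k => ctx.slpOk k) 8 410 = true := by decide +kernel

theorem slp_part3_9 : allFrom (fun k => ctx.slpOk k) 8 418 = true := by decide +kernel

theorem slp_part3_10 : allFrom (fun k => ctx.slpOk k) 8 426 = true := by decide +kernel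

theorem slp_part3_11 : allFrom (fun k => ctx.slpOk k) 8 434 = true := by decide +kernel

theorem slp_part3_12 : allFrom (fun k => ctx.slpOk k) 8 442 = true := by decide +kernel

theorem slp_part3_13 : allFrom (fun k => ctx.slpOk k) 8 450 = true := by decide +kernel

theorem slp_part3_14 : allFrom (fun k => ctx.slpOk k) 3 458 = true := by decide +kernel

theorem slp_block3 (k : ℕ) (h1 : 346 ≤ k) (h2 : k < 461) : ctx.slpOk k = true := by
  by_cases h0 : k < 354
  · exact allFrom_spec slp_part3_0 k (by omega) (by omega)
  by_cases h1 : k < 362
  · exact allFrom_spec slp_part3_1 k (by omega) (by omega)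
  by_cases h2 : k < 370
  · exact allFrom_spec slp_part3_2 k (by omega) (by omega)
  by_cases h3 : k < 378
  · exact allFrom_spec slp_part3_3 k (by omega) (by omega)
  by_cases h4 : k < 386
  · exact allFrom_spec slp_part3_4 k (by omega) (by omega)
  by_cases h5 : k < 394
  · exact allFrom_spec slp_part3_5 k (by omega) (by omega)
  by_cases h6 : k < 402
  · exact allFrom_spec slp_part3_6 k (by omega) (by omega)
  by_cases h7 : k < 410
  · exact allFrom_spec slp_part3_7 k (by omega) (by omega)
  by_cases h8 : k < 418
  · exact allFrom_spec slp_part3_8 k (by omega) (by omega)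
  by_cases h9 : k < 426
  · exact allFrom_spec slp_part3_9 k (by omega) (by omega)
  by_cases h10 : k < 434
  · exact allFrom_spec slp_part3_10 k (by omega) (by omega)
  by_cases h11 : k < 442
  · exact allFrom_spec slp_part3_11 k (by omega) (by omega)
  by_cases h12 : k < 450
  · exact allFrom_spec slp_part3_12 k (by omega) (by omega)
  by_cases h13 : k < 458
  · exact allFrom_spec slp_part3_13 k (by omega) (by omega)
  exact allFrom_spec slp_part3_14 k (by omega) (by omega)

end Cfsg.Agent.H13.RuOut
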