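import Cfsg.Agent.H13.RuOut.Data

/-! Kernel checks of the straight-line program. -/

set_option autoImplicit false
set_option maxRecDepth 100000
set_option Elab.async false

open Cfsg.Agent.H16 Cfsg.Agent.H36 Cfsg.Agent.H36.AutEngine

namespace Cfsg.Agent.H13.RuOut

theorem slp_part4_0 : allFrom (fun k => ctx.slpOk k) 8 461 = true := by decide +kernel

theorem slp_part4_1 : allFrom (fun k => ctx.slpOk k) 8 469 = true := by decide +kernel

theorem slp_part4_2 : allFrom (fun k => ctx.slpOk k) 8 477 = true := by decide +kernel

theorem slp_part4_3 : allFrom (fun k => ctx.slpOk k) 8 485 = true := by decide +kernel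

theorem slp_part4_4 : allFrom (fun k => ctx.slpOk k) 8 493 = true := by decide +kernel

theorem slp_part4_5 : allFrom (fun k => ctx.slpOk k) 8 501 = true := by decide +kernel

theorem slp_part4_6 : allFrom (fun k => ctx.slpOk k) 8 509 = true := by decide +kernel

theorem slp_part4_7 : allFrom (fun k => ctx.slpOk k) 8 517 = true := by decide +kernel

theorem slp_part4_8 : allFrom (fun k => ctx.slpOk k) 8 525 = true := by decide +kernel

theorem slp_part4_9 : allFrom (fun k => ctx.slpOk k) 8 533 = true := by decide +kernel

theorem slp_part4_10 : allFrom (fun k => ctx.slpOk k) 8 541 = true := by decide +kernel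

theorem slp_part4_11 : allFrom (fun k => ctx.slpOk k) 8 549 = true := by decide +kernel

theorem slp_part4_12 : allFrom (fun k => ctx.slpOk k) 8 557 = true := by decide +kernel

theorem slp_part4_13 : allFrom (fun k => ctx.slpOk k) 8 565 = true := by decide +kernel

theorem slp_part4_14 : allFrom (fun k => ctx.slpOk k) 3 573 = true := by decide +kernel

theorem slp_block4 (k : ℕ) (h1 : 461 ≤ k) (h2 : k < 576) : ctx.slpOk k = true := by
  by_cases h0 : k < 469
  · exact allFrom_spec slp_part4_0 k (by omega) (by omega)
  by_cases h1 : k < 477
  · exact allFrom_spec slp_part4_1 k (by omega) (by omega)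
  by_cases h2 : k < 485
  · exact allFrom_spec slp_part4_2 k (by omega) (by omega)
  by_cases h3 : k < 493
  · exact allFrom_spec slp_part4_3 k (by omega) (by omega)
  by_cases h4 : k < 501
  · exact allFrom_spec slp_part4_4 k (by omega) (by omega)
  by_cases h5 : k < 509
  · exact allFrom_spec slp_part4_5 k (by omega) (by omega)
  by_cases h6 : k < 517
  · exact allFrom_spec slp_part4_6 k (by omega) (by omega)
  by_cases h7 : k < 525
  · exact allFrom_spec slp_part4_7 k (by omega) (by omega)
  by_cases h8 : k < 533
  · exact allFrom_spec slp_part4_8 k (by omega) (by omega)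
  by_cases h9 : k < 541
  · exact allFrom_spec slp_part4_9 k (by omega) (by omega)
  by_cases h10 : k < 549
  · exact allFrom_spec slp_part4_10 k (by omega) (by omega)
  by_cases h11 : k < 557
  · exact allFrom_spec slp_part4_11 k (by omega) (by omega)
  by_cases h12 : k < 565
  · exact allFrom_spec slp_part4_12 k (by omega) (by omega)
  by_cases h13 : k < 573
  · exact allFrom_spec slp_part4_13 k (by omega) (by omega)
  exact allFrom_spec slp_part4_14 k (by omega) (by omega)

end Cfsg.Agent.H13.RuOut
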