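import Cfsg.Agent.H13.RuOut.Data

/-! Kernel checks of the straight-line program. -/

set_option autoImplicit false
set_option maxRecDepth 100000
set_option Elab.async false

open Cfsg.Agent.H16 Cfsg.Agent.H36 Cfsg.Agent.H36.AutEngine

namespace Cfsg.Agent.H13.RuOut

theorem slp_part5_0 : allFrom (fun k => ctx.slpOk k) 8 576 = true := by decide +kernel

theorem slp_part5_1 : allFrom (fun k => ctx.slpOk k) 8 584 = true := by decide +kernel

theorem slp_part5_2 : allFrom (fun k => ctx.slpOk k) 8 592 = true := by decide +kernel

theorem slp_part5_3 : allFrom (fun k => ctx.slpOk k) 8 600 = true := by decide +kernel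

theorem slp_part5_4 : allFrom (fun k => ctx.slpOk k) 8 608 = true := by decide +kernel

theorem slp_part5_5 : allFrom (fun k => ctx.slpOk k) 8 616 = true := by decide +kernel

theorem slp_part5_6 : allFrom (fun k => ctx.slpOk k) 8 624 = true := by decide +kernel

theorem slp_part5_7 : allFrom (fun k => ctx.slpOk k) 8 632 = true := by decide +kernel

theorem slp_part5_8 : allFrom (fun k => ctx.slpOk k) 8 640 = true := by decide +kernel

theorem slp_part5_9 : allFrom (fun k => ctx.slpOk k) 8 648 = true := by decide +kernel

theorem slp_part5_10 : allFrom (fun k => ctx.slpOk k) 8 656 = true := by decide +kernel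

theorem slp_part5_11 : allFrom (fun k => ctx.slpOk k) 8 664 = true := by decide +kernel

theorem slp_part5_12 : allFrom (fun k => ctx.slpOk k) 8 672 = true := by decide +kernel

theorem slp_part5_13 : allFrom (fun k => ctx.slpOk k) 8 680 = true := by decide +kernel

theorem slp_part5_14 : allFrom (fun k => ctx.slpOk k) 4 688 = true := by decide +kernel

theorem slp_block5 (k : ℕ) (h1 : 576 ≤ k) (h2 : k < 692) : ctx.slpOk k = true := by
  by_cases h0 : k < 584
  · exact allFrom_spec slp_part5_0 k (by omega) (by omega)
  by_cases h1 : k < 592
  · exact allFrom_spec slp_part5_1 k (by omega) (by omega)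
  by_cases h2 : k < 600
  · exact allFrom_spec slp_part5_2 k (by omega) (by omega)
  by_cases h3 : k < 608
  · exact allFrom_spec slp_part5_3 k (by omega) (by omega)
  by_cases h4 : k < 616
  · exact allFrom_spec slp_part5_4 k (by omega) (by omega)
  by_cases h5 : k < 624
  · exact allFrom_spec slp_part5_5 k (by omega) (by omega)
  by_cases h6 : k < 632
  · exact allFrom_spec slp_part5_6 k (by omega) (by omega)
  by_cases h7 : k < 640
  · exact allFrom_spec slp_part5_7 k (by omega) (by omega)
  by_cases h8 : k < 648
  · exact allFrom_spec slp_part5_8 k (by omega) (by omega)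
  by_cases h9 : k < 656
  · exact allFrom_spec slp_part5_9 k (by omega) (by omega)
  by_cases h10 : k < 664
  · exact allFrom_spec slp_part5_10 k (by omega) (by omega)
  by_cases h11 : k < 672
  · exact allFrom_spec slp_part5_11 k (by omega) (by omega)
  by_cases h12 : k < 680
  · exact allFrom_spec slp_part5_12 k (by omega) (by omega)
  by_cases h13 : k < 688
  · exact allFrom_spec slp_part5_13 k (by omega) (by omega)
  exact allFrom_spec slp_part5_14 k (by omega) (by omega)

end Cfsg.Agent.H13.RuOut
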