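import Cfsg.Agent.H13.RuOut.Data

/-! Kernel checks of the straight-line program. -/

set_option autoImplicit false
set_option maxRecDepth 100000
set_option Elab.async false

open Cfsg.Agent.H16 Cfsg.Agent.H36 Cfsg.Agent.H36.AutEngine

namespace Cfsg.Agent.H13.RuOut

theorem slp_part6_0 : allFrom (fun k => ctx.slpOk k) 8 692 = true := by decide +kernel

theorem slp_part6_1 : allFrom (fun k => ctx.slpOk k) 8 700 = true := by decide +kernel

theorem slp_part6_2 : allFrom (fun k => ctx.slpOk k) 8 708 = true := by decide +kernel

theorem slp_part6_3 : allFrom (fun k => ctx.slpOk k) 8 716 = true := by decide +kernel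

theorem slp_part6_4 : allFrom (fun k => ctx.slpOk k) 8 724 = true := by decide +kernel

theorem slp_part6_5 : allFrom (fun k => ctx.slpOk k) 8 732 = true := by decide +kernel

theorem slp_part6_6 : allFrom (fun k => ctx.slpOk k) 8 740 = true := by decide +kernel

theorem slp_part6_7 : allFrom (fun k => ctx.slpOk k) 8 748 = true := by decide +kernel

theorem slp_part6_8 : allFrom (fun k => ctx.slpOk k) 8 756 = true := by decide +kernel

theorem slp_part6_9 : allFrom (fun k => ctx.slpOk k) 8 764 = true := by decide +kernel

theorem slp_part6_10 : allFrom (fun k => ctx.slpOk k) 8 772 = true := by decide +kernel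

theorem slp_part6_11 : allFrom (fun k => ctx.slpOk k) 8 780 = true := by decide +kernel

theorem slp_part6_12 : allFrom (fun k => ctx.slpOk k) 8 788 = true := by decide +kernel

theorem slp_part6_13 : allFrom (fun k => ctx.slpOk k) 8 796 = true := by decide +kernel

theorem slp_part6_14 : allFrom (fun k => ctx.slpOk k) 3 804 = true := by decide +kernel

theorem slp_block6 (k : ℕ) (h1 : 692 ≤ k) (h2 : k < 807) : ctx.slpOk k = true := by
  by_cases h0 : k < 700
  · exact allFrom_spec slp_part6_0 k (by omega) (by omega)
  by_cases h1 : k < 708
  · exact allFrom_spec slp_part6_1 k (by omega) (by omega)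
  by_cases h2 : k < 716
  · exact allFrom_spec slp_part6_2 k (by omega) (by omega)
  by_cases h3 : k < 724
  · exact allFrom_spec slp_part6_3 k (by omega) (by omega)
  by_cases h4 : k < 732
  · exact allFrom_spec slp_part6_4 k (by omega) (by omega)
  by_cases h5 : k < 740
  · exact allFrom_spec slp_part6_5 k (by omega) (by omega)
  by_cases h6 : k < 748
  · exact allFrom_spec slp_part6_6 k (by omega) (by omega)
  by_cases h7 : k < 756
  · exact allFrom_spec slp_part6_7 k (by omega) (by omega)
  by_cases h8 : k < 764
  · exact allFrom_spec slp_part6_8 k (by omega) (by omega)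
  by_cases h9 : k < 772
  · exact allFrom_spec slp_part6_9 k (by omega) (by omega)
  by_cases h10 : k < 780
  · exact allFrom_spec slp_part6_10 k (by omega) (by omega)
  by_cases h11 : k < 788
  · exact allFrom_spec slp_part6_11 k (by omega) (by omega)
  by_cases h12 : k < 796
  · exact allFrom_spec slp_part6_12 k (by omega) (by omega)
  by_cases h13 : k < 804
  · exact allFrom_spec slp_part6_13 k (by omega) (by omega)
  exact allFrom_spec slp_part6_14 k (by omega) (by omega)

end Cfsg.Agent.H13.RuOut
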