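import Cfsg.Agent.H13.RuOut.Data

/-! Kernel checks of the straight-line program. -/

set_option autoImplicit false
set_option maxRecDepth 100000
set_option Elab.async false

open Cfsg.Agent.H16 Cfsg.Agent.H36 Cfsg.Agent.H36.AutEngine

namespace Cfsg.Agent.H13.RuOut

theorem slp_part7_0 : allFrom (fun k => ctx.slpOk k) 8 807 = true := by decide +kernel

theorem slp_part7_1 : allFrom (fun k => ctx.slpOk k) 8 815 = true := by decide +kernel

theorem slp_part7_2 : allFrom (fun k => ctx.slpOk k) 8 823 = true := by decide +kernel

theorem slp_part7_3 : allFrom (fun k => ctx.slpOk k) 8 831 = true := by decide +kernel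

theorem slp_part7_4 : allFrom (fun k => ctx.slpOk k) 8 839 = true := by decide +kernel

theorem slp_part7_5 : allFrom (fun k => ctx.slpOk k) 8 847 = true := by decide +kernel

theorem slp_part7_6 : allFrom (fun k => ctx.slpOk k) 8 855 = true := by decide +kernel

theorem slp_part7_7 : allFrom (fun k => ctx.slpOk k) 8 863 = true := by decide +kernel

theorem slp_part7_8 : allFrom (fun k => ctx.slpOk k) 8 871 = true := by decide +kernel

theorem slp_part7_9 : allFrom (fun k => ctx.slpOk k) 8 879 = true := by decide +kernel

theorem slp_part7_10 : allFrom (fun k => ctx.slpOk k) 8 887 = true := by decide +kernel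

theorem slp_part7_11 : allFrom (fun k => ctx.slpOk k) 8 895 = true := by decide +kernel

theorem slp_part7_12 : allFrom (fun k => ctx.slpOk k) 8 903 = true := by decide +kernel

theorem slp_part7_13 : allFrom (fun k => ctx.slpOk k) 8 911 = true := by decide +kernel

theorem slp_part7_14 : allFrom (fun k => ctx.slpOk k) 4 919 = true := by decide +kernel

theorem slp_block7 (k : ℕ) (h1 : 807 ≤ k) (h2 : k < 923) : ctx.slpOk k = true := by
  by_cases h0 : k < 815
  · exact allFrom_spec slp_part7_0 k (by omega) (by omega)
  by_cases h1 : k < 823
  · exact allFrom_spec slp_part7_1 k (by omega) (by omega)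
  by_cases h2 : k < 831
  · exact allFrom_spec slp_part7_2 k (by omega) (by omega)
  by_cases h3 : k < 839
  · exact allFrom_spec slp_part7_3 k (by omega) (by omega)
  by_cases h4 : k < 847
  · exact allFrom_spec slp_part7_4 k (by omega) (by omega)
  by_cases h5 : k < 855
  · exact allFrom_spec slp_part7_5 k (by omega) (by omega)
  by_cases h6 : k < 863
  · exact allFrom_spec slp_part7_6 k (by omega) (by omega)
  by_cases h7 : k < 871
  · exact allFrom_spec slp_part7_7 k (by omega) (by omega)
  by_cases h8 : k < 879
  · exact allFrom_spec slp_part7_8 k (by omega) (by omega)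
  by_cases h9 : k < 887
  · exact allFrom_spec slp_part7_9 k (by omega) (by omega)
  by_cases h10 : k < 895
  · exact allFrom_spec slp_part7_10 k (by omega) (by omega)
  by_cases h11 : k < 903
  · exact allFrom_spec slp_part7_11 k (by omega) (by omega)
  by_cases h12 : k < 911
  · exact allFrom_spec slp_part7_12 k (by omega) (by omega)
  by_cases h13 : k < 919
  · exact allFrom_spec slp_part7_13 k (by omega) (by omega)
  exact allFrom_spec slp_part7_14 k (by omega) (by omega)

end Cfsg.Agent.H13.RuOut
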