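import Cfsg.Agent.H13.RuOut.Cert
import Cfsg.Agent.H36.AutEngineFix
import Cfsg.Agent.H13.RuOut.Slp0
import Cfsg.Agent.H13.RuOut.Slp1
import Cfsg.Agent.H13.RuOut.Slp2
import Cfsg.Agent.H13.RuOut.Slp3
import Cfsg.Agent.H13.RuOut.Slp4
import Cfsg.Agent.H13.RuOut.Slp5
import Cfsg.Agent.H13.RuOut.Slp6
import Cfsg.Agent.H13.RuOut.Slp7

/-! Kernel checks of the classification certificate. -/

set_option autoImplicit false
set_option maxRecDepth 100000
set_option Elab.async false

open Cfsg.Agent.H16 Cfsg.Agent.H36 Cfsg.Agent.H36.AutEngine

namespace Cfsg.Agent.H13.RuOut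

theorem slp_ok : ∀ k, k < ctx.ns → ctx.slpOk k = true := by
  intro k hk
  change k < 923 at hk
  by_cases h0 : k < 115
  · exact slp_block0 k (by omega) (by omega)
  by_cases h1 : k < 230
  · exact slp_block1 k (by omega) (by omega)
  by_cases h2 : k < 346
  · exact slp_block2 k (by omega) (by omega)
  by_cases h3 : k < 461
  · exact slp_block3 k (by omega) (by omega)
  by_cases h4 : k < 576
  · exact slp_block4 k (by omega) (by omega)
  by_cases h5 : k < 692
  · exact slp_block5 k (by omega) (by omega)
  by_cases h6 : k < 807
  · exact slp_block6 k (by omega) (by omega)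
  exact slp_block7 k (by omega) (by omega)

theorem levels_ok : ctx.levelsOk levels [] = true := by decide +kernel

theorem prod_ok : ctx.prodCnt levels = 145926144000 := by
  apply Nat.eq_of_beq_eq_true
  decide +kernel

theorem trans0_shape : ctx.transShapeOk levels trans0 = true := by decide +kernel

theorem trans0_cand : allFrom (fun m => ctx.candOk levels trans0 m) 4060 0 = true := by decide +kernel

theorem trans0_ok : TransOk ctx levels trans0 where
  shape := trans0_shape
  cand := fun m hm => allFrom_spec trans0_cand m (Nat.zero_le _) (by simpa [trans0, ctx] using hm)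

theorem trans0_0_shape : ctx.transShapeOk levels trans0_0 = true := by decide +kernel

theorem trans0_0_cand : allFrom (fun m => ctx.candOk levels trans0_0 m) 4060 0 = true := by decide +kernel

theorem trans0_0_ok : TransOk ctx levels trans0_0 where
  shape := trans0_0_shape
  cand := fun m hm => allFrom_spec trans0_0_cand m (Nat.zero_le _) (by simpa [trans0_0, ctx] using hm)

theorem main_ok : ctx.certOk levels cert = true := by decide +kernel

theorem case0_ok : ctx.caseOk levels cert (cert.cases.getD 0 ⟨0, 0, trans0, [], []⟩) = true := by decide +kernel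

theorem branch0_0_ok : ctx.branchOk levels cert 0 (cert.cases.getD 0 ⟨0, 0, trans0, [], []⟩) ((cert.cases.getD 0 ⟨0, 0, trans0, [], []⟩).branches.getD 0 ⟨0, trans0, []⟩) = true := by decide +kernel

theorem cert_ok : CertOk ctx levels cert 0 where
  main := main_ok
  prime := show Nat.Prime 13 by norm_num
  cases := fun C hC => by
    simp only [cert, List.mem_cons, List.not_mem_nil, or_false] at hC
    rcases hC with rfl
    · refine ⟨case0_ok, trans0_ok, fun B hB => ?_⟩
      simp only [List.mem_cons, List.not_mem_nil, or_false] at hB
      rcases hB with rfl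
      · exact ⟨branch0_0_ok, trans0_0_ok⟩

end Cfsg.Agent.H13.RuOut
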