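import Cfsg.Agent.H13.RuOut.Checks
import Cfsg.Agent.H56.RuTits.Gens
import Cfsg.Prelude.Def_Sporadic

/-!
The Rudvalis group has no outer automorphism: from a faithful representation on the 4060 lines
that hits the two generators, and the order of the group.
-/

set_option autoImplicit false
set_option maxRecDepth 100000

namespace Cfsg.Agent.H13.RuOut

open Cfsg.Agent.H16 Cfsg.Agent.H36 Cfsg.Agent.H36.AutEngine Equiv
open Cfsg.Agent.H56.RuTits (g0 g1 g0P g1P)

noncomputable section

theorem genTab_eq : ctx.gens = [g0P, g1P] := by decide +kernel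

theorem gens_length : ctx.gens.length = 2 := by rw [genTab_eq]; rfl

/-- The generators. -/
def gen (c : Fin ctx.gens.length) : Perm (Fin ctx.n) := if (c : ℕ) = 0 then g0 else g1

theorem gen_rep (c : Fin ctx.gens.length) : ctx.Rep (gen c) (getN ctx.gens c) := by
  intro x
  have hc : (c : ℕ) < 2 := Nat.lt_of_lt_of_eq c.2 gens_length
  rcases (by omega : (c : ℕ) = 0 ∨ (c : ℕ) = 1) with h | h
  · rw [show gen c = g0 from if_pos h, h, show getN ctx.gens 0 = g0P from congrArg (getN · 0) genTab_eq]
    rfl
  · rw [show gen c = g1 from if_neg (by omega), h,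
      show getN ctx.gens 1 = g1P from congrArg (getN · 1) genTab_eq]
    rfl

variable {G : Type*} [Group G] (φ : G →* Perm (Fin 4060)) (hφ : Function.Injective φ)
  (h0 : g0 ∈ φ.range) (h1 : g1 ∈ φ.range) (hG : Nat.card G = 145926144000)

include hφ h0 h1 hG

theorem grp_eq : grpOf gen = φ.range := by
  refine Subgroup.eq_of_le_of_card_ge ((Subgroup.closure_le _).2 ?_) ?_
  · rintro _ ⟨c, rfl⟩
    by_cases hc : (c : ℕ) = 0
    · rw [show gen c = g0 from if_pos hc]; exact h0
    · rw [show gen c = g1 from if_neg hc]; exact h1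
  · calc Nat.card φ.range = 145926144000 := by
          rw [← Nat.card_congr (MonoidHom.ofInjective hφ).toEquiv, hG]
      _ = ctx.prodCnt levels := prod_ok.symm
      _ ≤ Nat.card (grpOf gen) := Ctx.prodCnt_le gen gen_rep slp_ok levels_ok

theorem card_grp : Nat.card (grpOf gen) = 145926144000 := by
  rw [grp_eq φ hφ h0 h1 hG]
  exact (Nat.card_congr (MonoidHom.ofInjective hφ).toEquiv).symm.trans hG

theorem setting : Setting ctx levels gen where
  rep := gen_rep
  slp := slp_ok
  levels := levels_ok
  card := prod_ok.trans (card_grp φ hφ h0 h1 hG).symm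

theorem fac : (Nat.card (grpOf gen)).factorization cert.p = 1 := by
  rw [card_grp φ hφ h0 h1 hG, show cert.p = 13 from rfl,
    show (145926144000 : ℕ) = 13 ^ 1 * 11225088000 by norm_num,
    Nat.factorization_mul (by norm_num) (by norm_num), Finsupp.add_apply,
    Nat.Prime.factorization_pow (by norm_num),
    Nat.factorization_eq_zero_of_not_dvd (by norm_num : ¬ 13 ∣ 11225088000)]
  simp

theorem card_out_grp : Nat.card (Cfsg.Out (grpOf gen)) = 1 :=
  card_out_one (setting φ hφ h0 h1 hG) cert_ok (fac φ hφ h0 h1 hG)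

/-- A group with such a representation has no outer automorphism. -/
theorem card_out_of_rep : Nat.card (Cfsg.Out G) = 1 := by
  let e : G ≃* grpOf gen := (MonoidHom.ofInjective hφ).trans
    (MulEquiv.subgroupCongr (grp_eq φ hφ h0 h1 hG).symm)
  rw [← card_out_grp φ hφ h0 h1 hG]
  refine Nat.card_congr (QuotientGroup.congr _ _ (MulAut.congr e) ?_).toEquiv
  ext x
  constructor
  · rintro ⟨_, ⟨g, rfl⟩, rfl⟩
    exact ⟨e g, by ext y; simp [MulAut.congr]⟩
  · rintro ⟨h, rfl⟩
    exact ⟨MulAut.conj (e.symm h), ⟨_, rfl⟩, by ext y; simp [MulAut.congr]⟩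

end

end Cfsg.Agent.H13.RuOut
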